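import Cfsg.Agent.LFU.Sides

/-! The monomial model in every dimension: a matrix group containing it gives a side of the comparison. -/

set_option autoImplicit false

namespace Cfsg.Agent.LFV

open Cfsg.Agent.LFU

section

open Polynomial Equiv Subgroup

theorem pow_eq_one_of {n N e : ℕ} {s : Mn n N} (h : s.right ^ 2 ^ e = 1) : s ^ 2 ^ (N + e) = 1 := by
  have e1 : s ^ 2 ^ e = SemidirectProduct.inl (s ^ 2 ^ e).left :=
    SemidirectProduct.ext rfl ((map_pow SemidirectProduct.rightHom s (2 ^ e)).trans h)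
  rw [pow_add, mul_comm, pow_mul, e1, ← map_pow,
    show (s ^ 2 ^ e).left ^ 2 ^ N = 1 from funext fun i => cy_pow _, map_one]

/-- The combinatorial data of a model of order at least `2 ^ c`. -/
structure Dat (n N : ℕ) (k : ℤ) (c : ℕ) where
  W : Subgroup (Perm (Fin n))
  w : Perm (Fin n)
  comm : ∀ τ ∈ W, τ * w = w * τ
  ww : w * w = 1
  wW : w ∈ W
  ee : ℕ
  four : ∀ τ ∈ W, τ ^ 2 ^ ee = 1
  card : 2 ^ c ≤ Nat.card (St N k W w comm)
  m : Fin n → ℕ
  j : ℕ
  inv : ∀ τ ∈ W, ∀ i, m (τ i) = m i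
  sum : ∑ i, m i = 2 ^ j

theorem pow_four {A : Type*} [CommMonoid A] {N e : ℕ} {θ : A} (h : IsPrimitiveRoot θ (2 ^ (N + e))) :
    IsPrimitiveRoot (θ ^ 2 ^ e) (2 ^ N) := h.pow (by positivity) (by ring)

/-- the universal character -/
noncomputable def eR (N e : ℕ) : Cy N →* UR (N + e) := ex (pow_four (rt_prim (N + e))).pow_eq_one

namespace Dat

variable {n N : ℕ} {k : ℤ} {c : ℕ} (D : Dat n N k c)

/-- the model for the general group -/
abbrev T : Subgroup (Mn n N) := St N k D.W D.w D.comm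

/-- the model for the special group -/
noncomputable def S : Subgroup D.T := ((Matrix.detMonoidHom.comp (mon (LFV.eR N D.ee))).comp D.T.subtype).ker

/-- the universal characteristic polynomial -/
noncomputable def chi (s : D.S) : (UR (N + D.ee))[X] := (mon (LFV.eR N D.ee) s.1.1).charpoly

/-- the scalars -/
def Z : Subgroup D.S where
  carrier := {s | s.1.1.right = 1 ∧ ∀ i j, s.1.1.left i = s.1.1.left j}
  one_mem' := ⟨rfl, fun _ _ => rfl⟩
  mul_mem' := by
    rintro a b ⟨h1, h2⟩ ⟨h3, h4⟩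
    exact ⟨by simp [h1, h3], fun i j => by
      rw [Subgroup.coe_mul, Subgroup.coe_mul, mul_left_apply, mul_left_apply, h2 i j, h4 _ (a.1.1.right⁻¹ j)]⟩
  inv_mem' := by
    rintro a ⟨h1, h2⟩
    exact ⟨by simp [h1], fun i j => by
      rw [coe_inv, coe_inv, inv_left_apply, inv_left_apply, h2 _ (a.1.1.right j)]⟩

theorem pow_T (s : D.T) : s.1 ^ 2 ^ (N + D.ee) = 1 := LFV.pow_eq_one_of (D.four _ s.2.1)

theorem side {E Ω : Type*} [Field E] [Field Ω] [Algebra E Ω] (h2 : (2 : E) ≠ 0) {θ : Ω}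
    (hθ : IsPrimitiveRoot θ (2 ^ (N + D.ee))) {Γ H : Type*} [Group Γ] [Finite Γ] [Group H]
    (μ : Γ →* Matrix (Fin n) (Fin n) E) (hμ : Function.Injective μ) (j : H →* Γ) (hj : Function.Injective j)
    (hr : ∀ g, g ∈ j.range ↔ (μ g).det = 1) (hc : ∀ h, h ∈ center H ↔ ∃ c : E, μ (j h) = c • 1)
    (hU : ∀ T, IsUnit T → ∃ u : Γ, ∀ a b : Γ, T * μ a = μ b * T → u * a = b * u)
    {x : Matrix (Fin n) (Fin n) Ω} (hx : IsUnit x)
    (h1 : ∀ s ∈ D.T, ∃ g, x * (μ g).map (algebraMap E Ω) = mon (ex (LFV.pow_four hθ).pow_eq_one) s * x)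
    (h3 : ∀ (g : Γ) (d : Fin n → E), (∀ i, ∃ t : ℕ, d i = (μ g).det ^ t) → (∀ i, d (D.w i) = d i) →
      ∃ c : Γ, x * (μ c).map (algebraMap E Ω) = Matrix.diagonal (fun i => algebraMap E Ω (d i)) * x)
    (hcard : ¬ 2 ^ (c + 1) ∣ Nat.card Γ) : ∃ ρ : D.S →* H, Side D.chi D.Z ρ j := by
  set e := ex (LFV.pow_four hθ).pow_eq_one
  have he : Function.Injective e := ex_inj (LFV.pow_four hθ)
  obtain ⟨f, hf⟩ := exists_lift hθ
  have hf' : IsPrimitiveRoot (f (rt (N + D.ee))) (2 ^ (N + D.ee)) := hf ▸ hθ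
  have hfe : ∀ m : Mn n N, (mon (LFV.eR N D.ee) m).map f = mon e m :=
    mon_map' fun c => by rw [LFV.eR, ex_apply, ex_apply, map_pow, map_pow, hf]
  have ha := (algebraMap E Ω).injective
  let ν : Γ →* Matrix (Fin n) (Fin n) Ω := (algebraMap E Ω).mapMatrix.toMonoidHom.comp μ
  have hν : ∀ g, (μ g).map (algebraMap E Ω) = ν g := fun _ => rfl
  simp only [hν] at h1 h3
  have can : ∀ {g g'}, x * ν g = x * ν g' → g = g' := fun h =>
    hμ (Matrix.map_injective ha (hx.mul_left_cancel h))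
  choose r₀ hr₀ using fun s : D.T => h1 s s.2
  let r : D.T →* Γ := MonoidHom.mk' r₀ fun a b => can (by
    rw [map_mul, ← mul_assoc, hr₀, hr₀, mul_assoc, hr₀, Subgroup.coe_mul, map_mul, mul_assoc])
  have hr' : ∀ s, x * ν (r s) = mon e s * x := hr₀
  have hT : IsPGroup 2 D.T := fun s => ⟨N + D.ee, Subtype.ext (D.pow_T s)⟩
  have hs : Syl r := .of_card (fun a b h => Subtype.ext (mon_inj he (hx.mul_right_cancel (by
    rw [← hr', ← hr', h])))) hT D.card hcard
  have hp : ∀ s : D.T, mon (LFV.eR N D.ee) s.1 ^ 2 ^ (N + D.ee) = 1 := fun s => by rw [← map_pow, D.pow_T, map_one]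
  have dt : ∀ {g A}, x * ν g = A * x → algebraMap E Ω (μ g).det = A.det := fun {g A} h => by
    have := congrArg Matrix.det h
    rw [Matrix.det_mul, Matrix.det_mul, mul_comm] at this
    rw [RingHom.map_det]
    exact ((Matrix.isUnit_iff_isUnit_det _).1 hx).mul_right_cancel this
  have cp : ∀ s, (μ (r s)).charpoly.map (algebraMap E Ω) = ((mon (LFV.eR N D.ee) s.1).map f).charpoly := fun s => by
    obtain ⟨u, rfl⟩ := hx
    rw [← Matrix.charpoly_map, hν, hfe, ← Matrix.charpoly_units_conj u, hr', mul_assoc, ← Matrix.coe_units_inv,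
      u.mul_inv, mul_one]
  obtain ⟨ρ, hρ, hρ'⟩ := hs.restrict hj (by
    rw [show j.range = (Matrix.detMonoidHom.comp μ).ker from Subgroup.ext hr]; infer_instance) (U := D.S) fun s => by
      rw [hr, ← ha.eq_iff, dt (hr' s), map_one, ← hfe, ← RingHom.mapMatrix_apply, ← RingHom.map_det]
      exact ⟨fun h => by rw [show (mon (LFV.eR N D.ee) s.1).det = 1 from h, map_one], fun h => inj_root hf' (x := (mon (LFV.eR N D.ee) s.1).det) (by
        rw [← Matrix.det_pow, hp, Matrix.det_one]) (one_pow _) (h.trans (map_one f).symm)⟩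
  refine ⟨ρ, hρ, hj, fun a b g h => charpoly_inj hf' (hp _) (hp _) ?_, fun U φ h => ?_, fun g hg => ?_, fun s => ?_⟩
  · rw [← cp, ← cp, ← hρ', ← hρ', h, map_mul j, map_mul μ, Matrix.charpoly_mul_comm, ← map_mul, ← map_mul, ← mul_assoc,
      inv_mul_cancel, one_mul]
  · obtain ⟨T, hT1, hT2⟩ := exists_conj ((hT.to_subgroup D.S).to_subgroup U) h2
      (μ.comp (r.comp (D.S.subtype.comp U.subtype))) (μ.comp (r.comp (D.S.subtype.comp φ))) fun a =>
        map_injective _ ha (by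
          refine (cp _).trans (Eq.trans ?_ (cp _).symm)
          rw [Matrix.charpoly_map, Matrix.charpoly_map]
          exact congrArg _ (h a).symm)
    obtain ⟨u, hu⟩ := hU T hT1
    exact ⟨u, fun a => by rw [hρ', hρ', eq_mul_inv_iff_mul_eq]; exact (hu _ _ (hT2 a)).symm⟩
  · obtain ⟨t, ht⟩ := exists_pow_eq_self_of_coprime (x := g⁻¹) (n := 2 ^ D.j)
      (Nat.Coprime.pow_left _ (Nat.coprime_two_left.2 (by rwa [orderOf_inv])))
    obtain ⟨c, hc⟩ := h3 g⁻¹ (fun i => (μ g⁻¹).det ^ (t * D.m i)) (fun i => ⟨_, rfl⟩) fun i => by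
      simp only [D.inv _ D.wW]
    refine ⟨c, fun s => can ?_, (hr _).2 ?_⟩
    · rw [hρ', map_mul, map_mul, ← mul_assoc, ← mul_assoc, hc, hr', mul_assoc, mul_assoc, hc, hr', ← mul_assoc,
        ← mul_assoc, diag_comm e fun i => by simp only [D.inv _ s.1.2.1]]
    · have := dt hc
      rw [Matrix.det_diagonal, ← map_prod, ha.eq_iff, Finset.prod_pow_eq_pow_sum, ← Finset.mul_sum, D.sum,
        ← Matrix.det_pow, ← map_pow, mul_comm, pow_mul, ht] at this
      rw [map_mul, Matrix.det_mul, this, ← Matrix.det_mul, ← map_mul, mul_inv_cancel, map_one, Matrix.det_one]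
  · rw [hc, hρ']
    refine Iff.trans ⟨?_, ?_⟩ (mon_scalar he s.1.1)
    · rintro ⟨c, h⟩
      refine ⟨algebraMap E Ω c, hx.mul_right_cancel ?_⟩
      rw [← hr', ← hν, h, Matrix.map_smul' _ _ _ (map_mul _), Matrix.map_one _ (map_zero _) (map_one _)]
      simp
    · rintro ⟨c, h⟩
      have : (μ (r s)).map (algebraMap E Ω) = c • 1 := hx.mul_left_cancel (by rw [hν, hr', h]; simp)
      rcases isEmpty_or_nonempty (Fin n) with h | ⟨⟨i₀⟩⟩
      · exact ⟨0, Subsingleton.elim _ _⟩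
      refine ⟨μ (r s) i₀ i₀, Matrix.map_injective ha ?_⟩
      have e0 : algebraMap E Ω (μ (r s) i₀ i₀) = c := by simpa using congrFun (congrFun this i₀) i₀
      change (μ (r s)).map _ = Matrix.map _ _
      rw [this, Matrix.map_smul' _ _ _ (map_mul _), Matrix.map_one _ (map_zero _) (map_one _), e0]

end Dat

end

open Matrix Cfsg.Agent.H67 Cfsg.Agent.H10

namespace Dat

variable {n N : ℕ} {k : ℤ} {c : ℕ} (D : Dat n N k c)

theorem lin {F : Type*} [Field F] [Fintype F] (h2 : (2 : F) ≠ 0) (hk : (Fintype.card F : ℤ) ≡ k [ZMOD 2 ^ N])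
    (hcard : ¬ 2 ^ (c + 1) ∣ Nat.card (GL (Fin n) F)) :
    ∃ ρ : D.S →* SpecialLinearGroup (Fin n) F, Side D.chi D.Z ρ SpecialLinearGroup.toGL := by
  obtain ⟨θ, hθ⟩ := exists_theta F h2 (N + D.ee)
  obtain ⟨p, _, f, hp, hq⟩ := FiniteField.card' F
  have : Fact p.Prime := ⟨hp⟩
  set e := ex (LFV.pow_four hθ).pow_eq_one with he
  let Ω := AlgebraicClosure F
  let σ := iterateFrobenius Ω p f
  have hσ : ∀ a, σ a = a ^ Fintype.card F := fun a => by rw [hq]; exact iterateFrobenius_def ..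
  obtain ⟨x, hx⟩ := S2665.result p f f.2 n ((mon e).toHomUnits (SemidirectProduct.inr D.w))
  have hx : mon e (SemidirectProduct.inr D.w) * x.1.map σ = x.1 :=
    congrArg Units.val (eq_mul_inv_iff_mul_eq.1 hx)
  have rat : ∀ A : Matrix (Fin n) (Fin n) Ω, IsUnit A →
      mon e (SemidirectProduct.inr D.w) * A.map σ = A * mon e (SemidirectProduct.inr D.w) →
      ∃ g : GL (Fin n) F, x.1 * g.1.map (algebraMap F Ω) = A * x.1 := fun A hA h => by
    obtain ⟨B, hB⟩ : ∃ B, x.1 * B = A * x.1 := ⟨x⁻¹.1 * (A * x.1), x.mul_inv_cancel_left _⟩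
    have h1 : B.map σ = B := x.isUnit.mul_left_cancel (by
      rw [hB]
      conv_lhs => rw [← hx, mul_assoc, ← Matrix.map_mul, hB, Matrix.map_mul, ← mul_assoc, h, mul_assoc, hx])
    choose B₀ hB₀ using fun i j => exists_algebraMap_eq_of_pow_card (F := F) (x := B i j)
      (by rw [← hσ]; exact congrFun (congrFun h1 i) j)
    have h3 : (Matrix.of B₀).map (algebraMap F Ω) = B := Matrix.ext hB₀
    refine ⟨GeneralLinearGroup.mkOfDetNeZero (Matrix.of B₀) fun h0 => ?_, by rw [← hB, ← h3]; rfl⟩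
    have := congrArg det hB
    rw [det_mul, det_mul, ← h3, ← RingHom.mapMatrix_apply, ← RingHom.map_det, h0, map_zero, mul_zero] at this
    exact (((isUnit_iff_isUnit_det _).1 hA).mul ((isUnit_iff_isUnit_det _).1 x.isUnit)).ne_zero this.symm
  refine D.side h2 hθ (Units.coeHom _) Units.val_injective _ SpecialLinearGroup.toGL_injective
    (fun g => ⟨?_, fun h => ⟨⟨g.1, h⟩, Units.ext rfl⟩⟩) (fun h => ?_) (fun T hT => ⟨hT.unit, fun a b e => Units.ext e⟩)
    x.isUnit (fun s hs => rat _ ((Group.isUnit s).map _) ?_) (fun g d h1 h3 => rat _ ?_ ?_) hcard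
  · rintro ⟨g, rfl⟩; exact g.2
  · rw [Matrix.SpecialLinearGroup.mem_center_iff]
    refine ⟨fun ⟨r, _, e⟩ => ⟨r, e.symm.trans (by simp [smul_one_eq_diagonal])⟩, fun ⟨r, e⟩ => ⟨r, ?_, ?_⟩⟩
    · have := congrArg det e
      rw [det_smul, det_one, mul_one] at this
      exact this.symm.trans h.2
    · exact Eq.trans (by simp [smul_one_eq_diagonal]) e.symm
  · rw [← he, mon_map (e' := e) (k := k) fun c => by rw [hσ, ← map_pow, ← zpow_natCast c, cy_zpow hk], ← map_mul,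
      ← map_mul, St.tw hs]
  · rw [isUnit_iff_isUnit_det, det_diagonal]
    refine (Finset.prod_ne_zero_iff.2 fun i _ => ?_).isUnit
    obtain ⟨t, ht⟩ := h1 i
    rw [ht, map_ne_zero]
    exact pow_ne_zero _ ((isUnit_iff_isUnit_det _).1 g.isUnit).ne_zero
  · rw [diagonal_map (map_zero _), diag_comm e (d := fun i => algebraMap F Ω (d i)) fun i => congrArg (algebraMap F Ω) (h3 i)]
    congr 2
    exact funext fun i => by rw [hσ, ← map_pow, FiniteField.pow_card]

theorem uni (hn : 2 ≤ n) {F : Type*} [Field F] [Fintype F] {q : ℕ} (hF : Fintype.card F = q ^ 2) (h2 : (2 : F) ≠ 0)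
    (hk : (q : ℤ) ≡ -k [ZMOD 2 ^ N]) (hk' : k ^ 2 ≡ 1 [ZMOD 2 ^ N]) (hcard : ¬ 2 ^ (c + 1) ∣ Nat.card (GU n F q)) :
    ∃ ρ : D.S →* SU n F q, Side D.chi D.Z ρ (suToGU n F q) := by
  have : Fact (Fintype.card F = q ^ 2) := ⟨hF⟩
  obtain ⟨θ, hθ⟩ := exists_theta F h2 (N + D.ee)
  let Ω := AlgebraicClosure F
  obtain ⟨ω, hω⟩ := exists_algebraMap_eq_of_pow_card (F := F) (x := θ ^ 2 ^ D.ee) (by
    have h1 : ((q ^ 2 : ℕ) : ℤ) ≡ (1 : ℕ) [ZMOD (2 ^ N : ℕ)] := by
      push_cast; exact (hk.pow 2).trans (by rwa [neg_sq])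
    rw [hF, pow_eq_pow_mod _ (LFV.pow_four hθ).pow_eq_one, Int.natCast_modEq_iff.1 h1,
      ← pow_eq_pow_mod _ (LFV.pow_four hθ).pow_eq_one, pow_one])
  have h1 : ω ^ 2 ^ N = 1 := (algebraMap F Ω).injective (by rw [map_pow, hω, (LFV.pow_four hθ).pow_eq_one, map_one])
  set e := ex h1 with he
  have h3 : ∀ s : Mn n N, cjT q (mon e s) = mon e (tw k s)⁻¹ := fun s => by
    rw [cjT_apply, mon_map (e' := e) (k := -k) fun c => by rw [cj_apply, ← map_pow, ← zpow_natCast, cy_zpow hk], mon_tr]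
  have h4 : (SemidirectProduct.inr D.w : Mn n N)⁻¹ = SemidirectProduct.inr D.w := by
    rw [inv_eq_iff_mul_eq_one, ← map_mul, D.ww, map_one]
  obtain ⟨y, -, hy⟩ := exists_cjT_mul_self (q := q) (H := mon e (SemidirectProduct.inr D.w)) (by
    rw [h3, show tw k (SemidirectProduct.inr D.w : Mn n N) = SemidirectProduct.inr D.w by ext <;> simp [tw], h4]) ((Group.isUnit _).map _)
  obtain ⟨y, rfl⟩ : IsUnit y := isUnit_of_mul_isUnit_right (hy ▸ (Group.isUnit _).map _)
  have rat : ∀ B : Matrix (Fin n) (Fin n) F,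
      cjT q B * mon e (SemidirectProduct.inr D.w) * B = mon e (SemidirectProduct.inr D.w) →
      ∃ g : GU n F q, y⁻¹.1.map (algebraMap F Ω) * g.1.1.map (algebraMap F Ω) =
        B.map (algebraMap F Ω) * y⁻¹.1.map (algebraMap F Ω) := fun B h =>
    ⟨mkGU (y.1 * (B * y⁻¹.1)) ((isIsom_iff_cjT _).2 (by
      rw [cjT_mul, cjT_mul, mul_assoc, ← mul_assoc (cjT q y.1), hy, mul_assoc, ← mul_assoc _ B, ← mul_assoc (cjT q B),
        ← mul_assoc (cjT q B), h, ← hy, mul_assoc, y.mul_inv, mul_one, ← cjT_mul, y.mul_inv, cjT_one])), by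
      rw [coe_mkGU, ← Matrix.map_mul, ← Matrix.map_mul, y.inv_mul_cancel_left]⟩
  refine D.side h2 hθ ((Units.coeHom _).comp (GU n F q).subtype) (Units.val_injective.comp Subtype.val_injective) _
    suToGU_injective mem_range_suToGU (mem_center_SU_iff hn) (fun T hT => ?_)
    (y⁻¹.isUnit.map (algebraMap F Ω).mapMatrix) (fun s hs => ?_) (fun g d h5 h6 => ?_) hcard
  · have hu : IsUnit (cjT q T * T) := (isUnit_iff_isUnit_det _).2 (by
        rw [det_mul, cjT_apply, det_transpose, ← RingHom.mapMatrix_apply, ← RingHom.map_det]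
        exact (((isUnit_iff_isUnit_det _).1 hT).map _).mul ((isUnit_iff_isUnit_det _).1 hT))
    obtain ⟨z, hz, hz'⟩ := exists_cjT_mul_self (q := q) (H := cjT q T * T) (by rw [cjT_mul, cjT_cjT]) hu
    obtain ⟨z, rfl⟩ : IsUnit z := isUnit_of_mul_isUnit_right (hz' ▸ hu)
    refine ⟨mkGU (T * z⁻¹.1) ((isIsom_iff_cjT _).2 (by
      rw [cjT_mul, mul_assoc, ← mul_assoc (cjT q T), ← hz', mul_assoc, z.mul_inv, mul_one, ← cjT_mul, z.mul_inv,
        cjT_one])), fun a b h => Subtype.ext (Units.ext ?_)⟩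
    have ha := (isIsom_iff_cjT _).1 ((mem_GU_iff _).1 a.2)
    have hb := (isIsom_iff_cjT _).1 ((mem_GU_iff _).1 b.2)
    change T * a.1.1 = b.1.1 * T at h
    have h7 : a.1.1 * z.1 = z.1 * a.1.1 := hz _ (by
      have : cjT q a.1.1 * (cjT q T * T * a.1.1) = cjT q T * T := by
        rw [mul_assoc, ← mul_assoc, ← cjT_mul, h, cjT_mul, mul_assoc, ← mul_assoc (cjT q b.1.1), hb, one_mul]
      rw [← this, ← mul_assoc, mul_eq_one_comm.1 ha, one_mul, this])
    change T * z⁻¹.1 * a.1.1 = b.1.1 * (T * z⁻¹.1)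
    rw [← mul_assoc, ← h, mul_assoc, mul_assoc, (z.inv_mul_eq_iff_eq_mul (c := a.1.1 * z⁻¹.1)).2 (by
      rw [← mul_assoc, ← h7, mul_assoc, z.mul_inv, mul_one])]
  · obtain ⟨g, hg⟩ := rat (mon e s) (by
      rw [h3, ← map_mul, ← map_mul, eq_inv_mul_iff_mul_eq.2 (St.tw hs), h4]
      congr 1
      rw [_root_.mul_inv_rev, _root_.mul_inv_rev, h4, mul_assoc, mul_assoc, mul_assoc, ← mul_assoc _ _ s, ← map_mul, D.ww]
      simp)
    exact ⟨g, hg.trans (by rw [mon_map' fun c => by rw [he, ex_apply, ex_apply, map_pow, hω]]; rfl)⟩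
  · obtain ⟨g', hg⟩ := rat (diagonal d) (by
      rw [mul_assoc, ← diag_comm e h6, ← mul_assoc, cjT_apply, diagonal_map (map_zero _), diagonal_transpose,
        diagonal_mul_diagonal, show (fun i => cj F q (d i) * d i) = fun _ => 1 from funext fun i => ?_, diagonal_one,
        one_mul]
      obtain ⟨t, ht⟩ := h5 i
      rw [ht, map_pow, ← mul_pow, mul_comm]
      exact (congrArg (· ^ t) ((mem_GU_iff _).1 g.2).det_mul_cj).trans (one_pow _))
    exact ⟨g', hg.trans (by rw [diagonal_map (map_zero _)]; rfl)⟩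

end Dat

end Cfsg.Agent.LFV
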