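import Cfsg.Agent.LFV.Gen
import Cfsg.Agent.LFU.Dat
import Cfsg.Prelude.Def_FusionSystem
import Cfsg.Prelude.Def_Classical

/-! The 2-fusion systems of `L_n(q)` and `U_n(q)` in every dimension. -/

set_option autoImplicit false

namespace Cfsg.Agent.LFV

open Cfsg.Agent.LFU Equiv Subgroup

/-- the exponent of the 2-part of the order -/
def ec (n a b : ℕ) : ℕ := n * a + n / 2 * b + padicValNat 2 (n / 2).factorial

theorem tor {n : ℕ} {w : Perm (Fin n)} (ww : w * w = 1) (hs : w.support.card = 2 * (n / 2)) (C : Type) [Group C]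
    [Finite C] (k : ℤ) (h : ∀ c : C, (c ^ k) ^ k = c) :
    Nat.card C ^ (n / 2) * Nat.card {c : C // c = c ^ k} ^ (n % 2) ≤
      Nat.card {v : Fin n → C // ∀ i, v (w i) = v i ^ k} := by
  classical
  have w2 : ∀ i, w (w i) = i := fun i => by rw [← Perm.mul_apply, ww, Perm.one_apply]
  have c1 : Nat.card {i // i < w i} = n / 2 := by
    have e1 : (Finset.univ.filter fun i => i < w i).card = (Finset.univ.filter fun i => w i < i).card :=
      Finset.card_bij (fun i _ => w i) (fun i hi => by simpa [w2] using hi) (fun i _ j _ e => w.injective e)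
        fun j hj => ⟨w j, by simpa [w2] using hj, w2 j⟩
    have e2 : w.support = (Finset.univ.filter fun i => i < w i) ∪ (Finset.univ.filter fun i => w i < i) := by
      ext i
      simp only [Perm.mem_support, Finset.mem_union, Finset.mem_filter, Finset.mem_univ, true_and]
      exact ne_comm.trans ne_iff_lt_or_gt
    rw [e2, Finset.card_union_of_disjoint (Finset.disjoint_filter.2 fun i _ h1 h2 => lt_asymm h1 h2), ← e1] at hs
    rw [Nat.card_eq_fintype_card, Fintype.card_subtype]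
    omega
  have c2 : Nat.card {i // w i = i} = n % 2 := by
    have e2 : (Finset.univ.filter fun i => w i = i) = w.supportᶜ := by
      ext i
      simp
    rw [Nat.card_eq_fintype_card, Fintype.card_subtype, e2, Finset.card_compl, hs, Fintype.card_fin]
    omega
  rw [← c1, ← c2, ← Nat.card_fun, ← Nat.card_fun, ← Nat.card_prod]
  refine Nat.card_le_card_of_injective (fun x => ⟨fun i => if h1 : i < w i then x.1 ⟨i, h1⟩ else
    if h2 : w i < i then x.1 ⟨w i, by rwa [w2]⟩ ^ k else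
      (x.2 ⟨i, le_antisymm (not_lt.1 h1) (not_lt.1 h2)⟩).1, fun i => ?_⟩) fun x y e => ?_
  · beta_reduce
    rcases lt_trichotomy i (w i) with h1 | h1 | h1
    · have h2 : ¬ w i < w (w i) := by rw [w2]; exact lt_asymm h1
      have h3 : w (w i) < w i := by rwa [w2]
      rw [dif_pos h1, dif_neg h2, dif_pos h3]
      simp only [w2]
    · have h2 : ¬ i < w i := h1.not_lt
      have h3 : ¬ w i < i := h1.not_gt
      have h4 : ¬ w i < w (w i) := by rw [w2]; exact h3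
      have h5 : ¬ w (w i) < w i := by rw [w2]; exact h2
      rw [dif_neg h2, dif_neg h3, dif_neg h4, dif_neg h5]
      simp only [← h1]
      exact (x.2 _).2
    · have h2 : w i < w (w i) := by rwa [w2]
      simp only [dif_pos h2, dif_neg (lt_asymm h1), dif_pos h1, h]
  · have e' := fun i => congrFun (congrArg Subtype.val e) i
    refine Prod.ext (funext fun i => ?_) (funext fun i => Subtype.ext ?_)
    · simpa only [dif_pos i.2] using e' i
    · simpa only [dif_neg i.2.not_gt, dif_neg i.2.not_lt] using e' i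

theorem exists_base {n : ℕ} (hn : 1 ≤ n) : ∃ (w : Perm (Fin n)) (W : Subgroup (Perm (Fin n))) (e j : ℕ)
    (m : Fin n → ℕ), w * w = 1 ∧ w.support.card = 2 * (n / 2) ∧ (∀ τ ∈ W, τ * w = w * τ) ∧ w ∈ W ∧
      (∀ τ ∈ W, τ ^ 2 ^ e = 1) ∧ 2 ^ (n / 2 + padicValNat 2 (n / 2).factorial) ≤ Nat.card W ∧
      (∀ τ ∈ W, ∀ i, m (τ i) = m i) ∧ ∑ i, m i = 2 ^ j := by
  classical
  have : Fact (Nat.Prime 2) := ⟨Nat.prime_two⟩
  obtain ⟨w, hw⟩ := (Perm.exists_with_cycleType_iff (Fin n) (m := Multiset.replicate (n / 2) 2)).2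
    ⟨by simp; omega, fun a ha => (Multiset.eq_of_mem_replicate ha).ge⟩
  have w2 : w ^ 2 = 1 := Perm.pow_prime_eq_one_iff.2 fun c hc => Multiset.eq_of_mem_replicate (hw ▸ hc)
  have hd : 2 ^ (n / 2 + padicValNat 2 (n / 2).factorial) ∣ Nat.card (centralizer {w}) := by
    rw [Perm.nat_card_centralizer, hw, pow_add, mul_assoc, Multiset.prod_replicate]
    refine Dvd.dvd.mul_left (mul_dvd_mul_left _ (pow_padicValNat_dvd.trans ?_)) _
    rcases Nat.eq_zero_or_pos (n / 2) with e | e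
    · simp [e]
    · simp [Multiset.toFinset_replicate, e.ne']
  let P : Sylow 2 (centralizer {w}) := default
  have hP : 2 ^ (n / 2 + padicValNat 2 (n / 2).factorial) ∣ Nat.card P := by
    rw [P.card_eq_multiplicity]
    exact pow_dvd_pow 2 ((Nat.prime_two.pow_dvd_iff_le_factorization Nat.card_pos.ne').1 hd)
  let W : Subgroup (Perm (Fin n)) := (P : Subgroup _).map (centralizer {w}).subtype
  have hW : IsPGroup 2 W := P.isPGroup'.map _
  obtain ⟨e, he⟩ := IsPGroup.iff_card.1 hW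
  let w' : centralizer {w} := ⟨w, mem_centralizer_singleton_iff.2 rfl⟩
  have hz : IsPGroup 2 (zpowers w') := by
    obtain ⟨i, -, hi⟩ := (Nat.dvd_prime_pow Nat.prime_two (m := 1)).1
      (orderOf_dvd_of_pow_eq_one (x := w') (Subtype.ext w2))
    exact IsPGroup.of_card (by rw [Nat.card_zpowers, hi])
  have hn' : (zpowers w').Normal := ⟨by
    rintro _ ⟨i, rfl⟩ g
    have : Commute g w' := Subtype.ext (mem_centralizer_singleton_iff.1 g.2)
    rw [(this.zpow_right i).eq, mul_inv_cancel_right]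
    exact ⟨i, rfl⟩⟩
  let i0 : Fin n := ⟨0, hn⟩
  obtain ⟨j, hj⟩ := hW.card_orbit i0
  refine ⟨w, W, e, j, fun i => if i ∈ MulAction.orbit W i0 then 1 else 0, by rw [← sq, w2], ?_, ?_,
    ⟨w', hz.le_sylow_of_normal P (mem_zpowers _), rfl⟩, fun τ hτ => ?_, ?_, fun τ hτ i => ?_, ?_⟩
  · rw [← Perm.sum_cycleType, hw, Multiset.sum_replicate, smul_eq_mul, mul_comm]
  · rintro _ ⟨τ, -, rfl⟩
    exact mem_centralizer_singleton_iff.1 τ.2
  · rw [← he]
    exact congrArg Subtype.val (pow_card_eq_one' (x := (⟨τ, hτ⟩ : W)))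
  · rw [card_map_of_injective (subtype_injective _)]
    exact Nat.le_of_dvd Nat.card_pos hP
  · refine if_congr ⟨fun h => ?_, fun h => MulAction.mapsTo_smul_orbit (⟨τ, hτ⟩ : W) i0 h⟩ rfl rfl
    have := MulAction.mapsTo_smul_orbit (⟨τ, hτ⟩ : W)⁻¹ i0 h
    beta_reduce at this
    rwa [show τ i = (⟨τ, hτ⟩ : W) • i from rfl, inv_smul_smul] at this
  · rw [← hj, Finset.sum_boole, Nat.cast_id, Nat.card_eq_fintype_card, Fintype.card_subtype]

theorem exists_dat {n : ℕ} (hn : 1 ≤ n) {k : ℤ} {a b : ℕ} (h : Par k a b) :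
    ∃ N, Nonempty (Dat n N k (ec n a b)) ∧ k ^ 2 ≡ 1 [ZMOD 2 ^ N] ∧
      ∀ k', Par k' a b → k' ≡ k [ZMOD 2 ^ N] := by
  obtain ⟨w, W, ee, j, m, ww, hs, f0, wW, f1, hW, f2, hsum⟩ := exists_base hn
  obtain ⟨hk, u, u', hu, hu', h1, h2⟩ := h
  by_cases hb : b = 1
  · have e : ∀ k', Par k' a b → k' ≡ 1 [ZMOD 2 ^ a] := fun k' ⟨_, v, _, _, _, h, _⟩ =>
      (Int.modEq_iff_dvd.2 ⟨v, h⟩).symm
    have e1 := e k ⟨hk, u, u', hu, hu', h1, h2⟩
    refine ⟨a, ⟨⟨W, 1, by simp, by simp, one_mem _, ee, f1, le_trans ?_ (card_St _ _ _), m, j, f2, hsum⟩⟩,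
      by simpa using e1.pow 2, fun k' h => (e k' h).trans e1.symm⟩
    refine le_trans ?_ (Nat.mul_le_mul_left _ hW)
    rw [Nat.card_congr (subtypeUnivEquiv fun v i => by rw [cy_zpow e1]; simp), Nat.card_fun, card_cy, hb,
      Nat.card_fin, ← pow_mul, ← pow_add]
    exact Nat.pow_le_pow_right two_pos (by rw [ec, mul_comm]; omega)
  · have ha : a = 1 := by
      obtain ⟨t, rfl⟩ := hk
      obtain ⟨s, rfl⟩ := hu
      obtain ⟨s', rfl⟩ := hu'
      rcases a with _ | _ | a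
      · omega
      · rfl
      rcases b with _ | _ | b
      · omega
      · omega
      rw [pow_add, pow_add, mul_right_comm, mul_right_comm _ (2 ^ 1)] at h1 h2
      omega
    subst ha
    have e1 : k ^ 2 ≡ 1 [ZMOD 2 ^ (b + 1)] := (Int.modEq_iff_dvd.2 ⟨u * u', by
      rw [show k ^ 2 - 1 = (k - 1) * (k + 1) by ring, h1, h2]; ring⟩).symm
    refine ⟨b + 1, ⟨⟨W, w, f0, ww, wW, ee, f1, le_trans ?_ (card_St _ _ _), m, j, f2, hsum⟩⟩, e1, ?_⟩
    · refine le_trans ?_ (Nat.mul_le_mul ((Nat.mul_le_mul_left _ (Nat.pow_le_pow_left (two_le_card hk) _)).trans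
        (tor ww hs _ _ fun c => by rw [← zpow_mul, ← sq, cy_zpow e1, zpow_one])) hW)
      rw [card_cy, ← pow_mul, ← pow_add, ← pow_add]
      exact Nat.pow_le_pow_right two_pos (by rw [ec, add_mul, mul_comm b]; omega)
    · rintro k' ⟨-, -, v, -, hv, -, h3⟩
      obtain ⟨t, ht⟩ := hu'.sub_odd hv
      exact Int.modEq_iff_dvd.2 ⟨t, by rw [pow_succ, mul_assoc, two_mul, ← ht]; linear_combination h2 - h3⟩

/-- exact power of two -/
def Ex (x : ℤ) (c : ℕ) : Prop := ∃ o : ℤ, Odd o ∧ x = 2 ^ c * o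

theorem Ex.mul {x y : ℤ} {c d : ℕ} (h : Ex x c) (h' : Ex y d) : Ex (x * y) (c + d) := by
  obtain ⟨o, h1, rfl⟩ := h
  obtain ⟨o', h2, rfl⟩ := h'
  exact ⟨o * o', h1.mul h2, by ring⟩

theorem ex_odd {k : ℤ} {a : ℕ} (hk : Odd k) (h : Ex (k - 1) a) (t : ℕ) : Ex (k ^ (2 * t + 1) - 1) a := by
  obtain ⟨o, h1, h2⟩ : ∃ o : ℤ, Odd o ∧ k ^ (2 * t + 1) - 1 = (k - 1) * o := by
    induction t with
    | zero => exact ⟨1, odd_one, by ring⟩
    | succ t ih =>
      obtain ⟨o, h1, h2⟩ := ih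
      exact ⟨k ^ 2 * o + (k + 1), (hk.pow.mul h1).add_even hk.add_one, by
        linear_combination k ^ 2 * h2⟩
  rw [h2, ← add_zero a]
  exact h.mul ⟨o, h1, by ring⟩

theorem ex_even {k : ℤ} {a b : ℕ} (h : Par k a b) (m : ℕ) (hm : m ≠ 0) :
    Ex (k ^ (2 * m) - 1) (a + b + padicValNat 2 m) := by
  have : Fact (Nat.Prime 2) := ⟨Nat.prime_two⟩
  induction m using Nat.strong_induction_on with
  | _ m ih =>
  obtain ⟨hk, u, u', hu, hu', h1, h2⟩ := id h
  obtain ⟨t, rfl | rfl⟩ := Nat.even_or_odd' m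
  · have h3 := ih t (by omega) (by omega)
    obtain ⟨s, hs⟩ := hk.pow (n := t)
    have h4 : Ex (k ^ (2 * t) + 1) 1 := ⟨2 * (s ^ 2 + s) + 1, odd_two_mul_add_one _, by
      rw [mul_comm, pow_mul, hs]; ring⟩
    rw [padicValNat.mul two_ne_zero (by omega), padicValNat_self, add_comm 1, ← add_assoc,
      show k ^ (2 * (2 * t)) - 1 = (k ^ (2 * t) - 1) * (k ^ (2 * t) + 1) by ring]
    exact h3.mul h4
  · rw [padicValNat.eq_zero_of_not_dvd (by omega), add_zero, pow_mul]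
    exact ex_odd hk.pow ⟨u * u', hu.mul hu', by
      rw [show k ^ 2 - 1 = (k - 1) * (k + 1) by ring, h1, h2]; ring⟩ t

theorem ex_prod {k : ℤ} {a b : ℕ} (h : Par k a b) (n : ℕ) :
    Ex (∏ i ∈ Finset.range n, (k ^ (i + 1) - 1)) (ec n a b) := by
  have : Fact (Nat.Prime 2) := ⟨Nat.prime_two⟩
  induction n with
  | zero => exact ⟨1, odd_one, by simp [ec]⟩
  | succ n ih =>
    rw [Finset.prod_range_succ]
    obtain ⟨t, rfl | rfl⟩ := Nat.even_or_odd' n
    · obtain ⟨hk, u, u', hu, hu', h1, h2⟩ := id h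
      convert ih.mul (ex_odd hk ⟨u, hu, h1⟩ t) using 1
      rw [ec, ec, show (2 * t + 1) / 2 = 2 * t / 2 by omega]
      ring
    · have h3 := ex_even h (t + 1) (by omega)
      rw [show 2 * (t + 1) = 2 * t + 1 + 1 by ring] at h3
      convert ih.mul h3 using 1
      rw [ec, ec, show (2 * t + 1) / 2 = t by omega, show (2 * t + 1 + 1) / 2 = t + 1 by omega, Nat.factorial_succ,
        padicValNat.mul (by omega) (Nat.factorial_ne_zero _)]
      ring

theorem not_dvd {n : ℕ} {k r : ℤ} {a b : ℕ} (h : Par k a b) (hr : Odd r) {M : ℕ}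
    (hM : (M : ℤ) = r * ∏ i ∈ Finset.range n, (k ^ (i + 1) - 1)) : ¬ 2 ^ (ec n a b + 1) ∣ M := by
  obtain ⟨o, ho, e⟩ := ex_prod h n
  intro hd
  have hd : (2 : ℤ) ^ (ec n a b + 1) ∣ M := by exact_mod_cast hd
  rw [hM, e, pow_succ, mul_left_comm, mul_dvd_mul_iff_left (by positivity)] at hd
  exact Int.not_even_iff_odd.2 (hr.mul ho) (even_iff_two_dvd.2 hd)

theorem Dat.lin' {n N a b : ℕ} {k : ℤ} (D : Dat n N k (ec n a b))
    (hD : ∀ k', Par k' a b → k' ≡ k [ZMOD 2 ^ N]) {F : Type*} [Field F] [Fintype F] (h : Par (Fintype.card F) a b) :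
    ∃ ρ : D.S →* Matrix.SpecialLinearGroup (Fin n) F, Side D.chi D.Z ρ Matrix.SpecialLinearGroup.toGL := by
  refine D.lin (two_ne (by exact_mod_cast h.1)) (hD _ h)
    (not_dvd h (h.1.pow (n := ∑ i ∈ Finset.range n, i)) ?_)
  rw [Matrix.card_GL_field, Nat.cast_prod,
    Finset.prod_congr rfl fun i _ => Nat.cast_sub (Nat.pow_le_pow_right Fintype.card_pos i.2.le),
    ← Finset.prod_range_reflect, ← Finset.prod_pow_eq_pow_sum, ← Finset.prod_mul_distrib, Finset.prod_range]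
  refine Finset.prod_congr rfl fun i _ => ?_
  have := i.2
  rw [mul_sub, ← pow_add, show (i : ℕ) + (n - 1 - i + 1) = n by omega]
  simp

theorem Dat.uni' {n : ℕ} (hn : 2 ≤ n) {N a b : ℕ} {k : ℤ} (D : Dat n N k (ec n a b))
    (hk : k ^ 2 ≡ 1 [ZMOD 2 ^ N]) (hD : ∀ k', Par k' a b → k' ≡ k [ZMOD 2 ^ N]) {F : Type*} [Field F] [Fintype F]
    {q : ℕ} (hF : Fintype.card F = q ^ 2) (h : Par (-q) a b) :
    ∃ ρ : D.S →* SU n F q, Side D.chi D.Z ρ (H10.suToGU n F q) := by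
  have : Fact (Fintype.card F = q ^ 2) := ⟨hF⟩
  have hq : Odd (q : ℤ) := by simpa using h.1.neg
  refine D.uni hn hF (two_ne (hF ▸ Odd.pow (by exact_mod_cast hq))) (by simpa using (hD _ h).neg) hk
    (not_dvd h ((hq.pow (n := n * (n - 1) / 2)).mul
      ((odd_neg_one (α := ℤ)).pow (n := ∑ i ∈ Finset.range n, (i + 1)))) ?_)
  have h1 : ∀ i, 1 ≤ q ^ i := fun i => Nat.one_le_pow _ _ (by have := H10.two_le_q F q; omega)
  rw [H10.card_GU, Nat.cast_mul, Nat.cast_pow, Nat.cast_prod, mul_assoc, ← Finset.prod_pow_eq_pow_sum,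
    ← Finset.prod_mul_distrib]
  refine congrArg _ (Finset.prod_congr rfl fun i _ => ?_)
  split_ifs with e
  · rw [e.add_one.neg_pow, e.add_one.neg_pow]
    push_cast
    ring
  · have e' := (Nat.not_even_iff_odd.1 e).add_one
    rw [e'.neg_pow, e'.neg_pow, Nat.cast_sub (h1 _)]
    push_cast
    ring

/-- A model of the Sylow 2-subgroup of `SL_n(q)`. -/
theorem exists_side {n : ℕ} (hn : 1 ≤ n) {F : Type*} [Field F] [Fintype F] (hq : Odd (Fintype.card F)) :
    ∃ (S : Type) (_ : Group S) (X : Type) (χ : S → X) (Z : Subgroup S)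
      (ρ : S →* Matrix.SpecialLinearGroup (Fin n) F), Side χ Z ρ Matrix.SpecialLinearGroup.toGL := by
  have hp := par_pos Fintype.one_lt_card hq
  obtain ⟨N, ⟨D⟩, -, hD⟩ := exists_dat hn hp
  obtain ⟨ρ, hρ⟩ := D.lin' hD hp
  exact ⟨D.S, inferInstance, _, D.chi, D.Z, ρ, hρ⟩

/-- The `←` direction of S5173. -/
theorem back {G : Type*} [Group G] [Finite G] (S : Sylow 2 G) (n : ℕ) (hn : 2 ≤ n) {F : Type*} [Field F] [Fintype F] (q : ℕ) (hFq : Fintype.card F = q) (hq : Odd q)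
    (h : (∃ (F' : Type) (_ : Field F') (_ : Fintype F') (q' : ℕ), Fintype.card F' = q' ∧ Odd q' ∧ padicValNat 2 (q' - 1) = padicValNat 2 (q - 1) ∧ padicValNat 2 (q' + 1) = padicValNat 2 (q + 1) ∧ Nonempty (G ≃* Matrix.ProjectiveSpecialLinearGroup (Fin n) F')) ∨ (∃ (F' : Type) (_ : Field F') (_ : Fintype F') (q' : ℕ), Fintype.card F' = q' ^ 2 ∧ Odd q' ∧ padicValNat 2 (q' + 1) = padicValNat 2 (q - 1) ∧ padicValNat 2 (q' - 1) = padicValNat 2 (q + 1) ∧ Nonempty (G ≃* Cfsg.PSU n F' q'))) :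
    ∃ ι : ↥(S : Subgroup G) →* Matrix.ProjectiveSpecialLinearGroup (Fin n) F, (Cfsg.groupFusionSystem (S : Subgroup G)).IsRealizedBy ι ∧ ∃ T : Sylow 2 (Matrix.ProjectiveSpecialLinearGroup (Fin n) F), (T : Subgroup (Matrix.ProjectiveSpecialLinearGroup (Fin n) F)) = ι.range := by
  subst hFq
  have hp := par_pos Fintype.one_lt_card hq
  obtain ⟨N, ⟨D⟩, hk, hD⟩ := exists_dat (by omega : 1 ≤ n) hp
  obtain ⟨ρ, hρ⟩ := D.lin' hD hp
  have := hρ.normal
  rcases h with ⟨F', _, _, q', rfl, h1, h2, h3, ⟨e⟩⟩ | ⟨F', _, _, q', hF, h1, h2, h3, ⟨e⟩⟩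
  · obtain ⟨ρ', hρ'⟩ := D.lin' hD (h2 ▸ h3 ▸ par_pos (Fintype.one_lt_card (α := F')) h1)
    exact hρ'.realized hρ S e
  · obtain ⟨ρ', hρ'⟩ := D.uni' hn hk hD hF (h2 ▸ h3 ▸ (par_pos (H10.two_le_of_card_sq hF) h1).neg)
    exact hρ'.realized hρ S e

end Cfsg.Agent.LFV
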